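import Mathlib
import Cfsg.Prelude.Def_Transfer
import Cfsg.Agent.S3041
import Cfsg.Agent.Lib.Fusion.Saturation
import Cfsg.Agent.Lib.PLocal.Natural.Main
import Cfsg.Agent.Lib.FpfFusion.CoprimeCore

/-!
# Odd coprime groups of automorphisms of a 2-group normalised by a fixed point free one

Theorem T, section 4: in a 2-group, an automorphism of odd prime order `r` without fixed points
centralises every group of automorphisms of odd prime power order, prime to `r`, that it normalises.
-/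

set_option autoImplicit false
set_option linter.style.haveILetI false
set_option linter.unusedSectionVars false

namespace Cfsg.Agent.SETwoClosed.Tail

open Cfsg
open scoped commutatorElement
open Cfsg.Agent

universe u

variable {q r : ℕ} [hq : Fact q.Prime]

set_option maxHeartbeats 1000000 in
theorem commute_of_fpf (hq2 : q ≠ 2) (hr : r.Prime) (hr2 : r ≠ 2) (hrq : r ≠ q) :
    ∀ (n : ℕ) (J : Type u) [Group J] [Finite J], IsPGroup 2 J → Nat.card J = n →
      ∀ (A : Subgroup (MulAut J)) (a : MulAut J), a ^ r = 1 → (∀ x, a x = x → x = 1) →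
        IsPGroup q A → (∀ g ∈ A, a * g * a⁻¹ ∈ A) → ∀ g ∈ A, Commute a g := by
  intro n
  haveI : Fact (Nat.Prime 2) := ⟨Nat.prime_two⟩
  induction n using Nat.strong_induction_on with
  | _ n ih =>
  intro J _ _ hJ hn A a har hfix hAq haA g hg
  classical
  rcases subsingleton_or_nontrivial J with hsub | hnt
  · exact MulEquiv.ext fun x => Subsingleton.elim _ _
  -- a minimal invariant central subgroup of exponent two
  let Z₁ : Subgroup J :=
    { carrier := {x | x ∈ Subgroup.center J ∧ x ^ 2 = 1}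
      one_mem' := ⟨Subgroup.one_mem _, one_pow 2⟩
      mul_mem' := fun {x y} hx hy => ⟨Subgroup.mul_mem _ hx.1 hy.1, by
        rw [(show Commute x y from (Subgroup.mem_center_iff.1 hx.1 y).symm).mul_pow, hx.2, hy.2, one_mul]⟩
      inv_mem' := fun {x} hx => ⟨Subgroup.inv_mem _ hx.1, by rw [inv_pow, hx.2, inv_one]⟩ }
  let X : Subgroup (MulAut J) := A ⊔ Subgroup.zpowers a
  let Inv : Set (Subgroup J) := {M | M ≤ Z₁ ∧ M ≠ ⊥ ∧ ∀ g ∈ X, ∀ m ∈ M, g m ∈ M}
  have hInv : Inv.Nonempty := by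
    refine ⟨Z₁, le_rfl, ?_, fun g _ m hm => ⟨?_, by rw [← map_pow, hm.2, map_one]⟩⟩
    · haveI := hJ.center_nontrivial
      have hdvd : 2 ∣ Nat.card (Subgroup.center J) := by
        obtain ⟨e, he⟩ := IsPGroup.iff_card.1 (hJ.to_subgroup (Subgroup.center J))
        rw [he]
        refine dvd_pow_self 2 fun e0 => ?_
        rw [e0, pow_zero] at he
        exact Finite.one_lt_card.ne' he
      obtain ⟨z, hz⟩ := exists_prime_orderOf_dvd_card' 2 hdvd
      intro e
      have h1 : (z : J) ∈ Z₁ := ⟨z.2, by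
        rw [← Subgroup.coe_pow, ← hz, pow_orderOf_eq_one]; rfl⟩
      rw [e, Subgroup.mem_bot] at h1
      rw [show z = 1 from Subtype.ext h1, orderOf_one] at hz
      exact Nat.prime_two.ne_one hz.symm
    · refine Subgroup.mem_center_iff.2 fun y => ?_
      have h1 := congrArg g (Subgroup.mem_center_iff.1 hm.1 (g⁻¹ y))
      rwa [map_mul, map_mul, MulAut.apply_inv_self] at h1
  obtain ⟨M, ⟨hMZ, hM1, hMX⟩, hmin⟩ := Set.exists_min_image Inv (fun M => Nat.card M) (Set.toFinite _) hInv
  have hMn : M.Normal := ⟨fun m hm g => by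
    rw [Subgroup.mem_center_iff.1 (hMZ hm).1 g, mul_inv_cancel_right]; exact hm⟩
  letI : CommGroup M :=
    { (inferInstance : Group M) with
      mul_comm := fun x y => Subtype.ext (Subgroup.mem_center_iff.1 (hMZ y.2).1 x) }
  letI : Module (ZMod 2) (Additive M) := AddCommGroup.zmodModule (n := 2) (G := Additive M)
    (fun v => congrArg Additive.ofMul (Subtype.ext (hMZ v.toMul.2).2 : v.toMul ^ 2 = 1))
  haveI : Nontrivial M := (Subgroup.nontrivial_iff_ne_bot M).2 hM1
  haveI : Nontrivial (Additive M) := inferInstanceAs (Nontrivial M)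
  have hXst : X ≤ FpfFusion.stabSub M := fun g hg => FpfFusion.mem_stabSub fun m hm => hMX g hg m hm
  have haX : a ∈ X := Subgroup.mem_sup_right (Subgroup.mem_zpowers a)
  have hAX : A ≤ X := le_sup_left
  let θ : X →* MulAut M := (FpfFusion.restrictSub M).comp (Subgroup.inclusion hXst)
  set Xb := θ.range with hXb
  let Gb : Subgroup Xb := (A.subgroupOf X).map θ.rangeRestrict
  let ab : Xb := θ.rangeRestrict ⟨a, haX⟩
  have hAn : (A.subgroupOf X).Normal := by
    have h1 : X ≤ Subgroup.normalizer (A : Set (MulAut J)) :=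
      sup_le Subgroup.le_normalizer (Subgroup.zpowers_le.2 (Fusion.Saturation.mem_normalizer_of_forall haA))
    exact (Subgroup.normal_subgroupOf_iff_le_normalizer hAX).2 h1
  have hGn : Gb.Normal := hAn.map _ θ.rangeRestrict_surjective
  have hGbq : IsPGroup q Gb := (hAq.comap_of_injective X.subtype Subtype.val_injective).map _
  have habfix : ∀ v : M, ((ab : Xb) : MulAut M) v = v → v = 1 := fun v hv =>
    Subtype.ext (hfix _ (congrArg Subtype.val hv))
  haveI : Fact r.Prime := ⟨hr⟩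
  have habord : orderOf ab = r := by
    refine orderOf_eq_prime ?_ fun e => ?_
    · rw [← map_pow, show (⟨a, haX⟩ : X) ^ r = 1 from Subtype.ext har, map_one]
    · obtain ⟨v, hv⟩ := exists_ne (1 : M)
      exact hv (habfix v (by rw [e]; rfl))
  have hgen : Gb ⊔ Subgroup.zpowers ab = ⊤ := by
    refine eq_top_iff.2 fun y _ => ?_
    obtain ⟨⟨g, hg⟩, rfl⟩ := θ.rangeRestrict_surjective y
    have h1 : (⟨g, hg⟩ : X) ∈ A.subgroupOf X ⊔ Subgroup.zpowers (⟨a, haX⟩ : X) := by
      have h2 : A.subgroupOf X ⊔ Subgroup.zpowers (⟨a, haX⟩ : X) = ⊤ := by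
        refine Subgroup.map_injective X.subtype_injective ?_
        rw [Subgroup.map_sup, Subgroup.map_subgroupOf_eq_of_le hAX, MonoidHom.map_zpowers,
          ← MonoidHom.range_eq_map, Subgroup.range_subtype]
        rfl
      rw [h2]; exact Subgroup.mem_top _
    have h3 := Subgroup.mem_map_of_mem θ.rangeRestrict h1
    rwa [Subgroup.map_sup, MonoidHom.map_zpowers] at h3
  have hrGb : ¬ r ∣ Nat.card Gb := fun h => by
    obtain ⟨e, he⟩ := IsPGroup.iff_card.1 hGbq
    rw [he] at h
    exact hrq ((Nat.prime_dvd_prime_iff_eq hr hq.out).1 (hr.dvd_of_dvd_pow h))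
  let ρ : Representation (ZMod 2) Xb (Additive M) := FFNatural.actRep Xb.subtype
  have hshult := S3041.result Gb (Subgroup.zpowers ab) hgen r hr (by rw [Nat.card_zpowers, habord]) hrGb ρ
    (fun g h e => Subtype.ext (MulEquiv.ext fun v =>
      congrArg Additive.toMul (LinearMap.congr_fun e (Additive.ofMul v))))
    (fun W hW => by
      let U : Subgroup J := ((Submodule.toAddSubgroup W).toSubgroup').map M.subtype
      by_cases hU : U = ⊥
      · left
        refine (Submodule.eq_bot_iff W).2 fun v hv => ?_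
        have h1 : ((v.toMul : M) : J) ∈ U := ⟨v.toMul, hv, rfl⟩
        rw [hU, Subgroup.mem_bot] at h1
        exact congrArg Additive.ofMul (Subtype.ext h1 : v.toMul = (1 : M))
      · right
        have hUM : U ≤ M := Subgroup.map_subtype_le _
        have hstab : ∀ g ∈ X, ∀ m ∈ U, g m ∈ U := by
          rintro g hg _ ⟨w, hw, rfl⟩
          exact ⟨⟨g w, hMX g hg w w.2⟩, hW (θ.rangeRestrict ⟨g, hg⟩) ⟨_, hw, rfl⟩, rfl⟩
        have h1 := hmin U ⟨hUM.trans hMZ, hU, hstab⟩
        have h2 : U = M := Subgroup.eq_of_le_of_card_ge hUM h1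
        refine eq_top_iff.2 fun v _ => ?_
        obtain ⟨w, hw, hwv⟩ : ((v.toMul : M) : J) ∈ U := h2.symm ▸ v.toMul.2
        rw [Subtype.ext hwv] at hw
        exact hw)
    (fun v hv => congrArg Additive.ofMul (habfix v.toMul
      (congrArg Additive.toMul (hv ab (Subgroup.mem_zpowers ab)))))
  -- the commutator of `a` and `g`
  set c : MulAut J := g * a * g⁻¹ * a⁻¹ with hc
  have hcA : c ∈ A := by
    rw [hc, show g * a * g⁻¹ * a⁻¹ = g * (a * g⁻¹ * a⁻¹) by group]
    exact A.mul_mem hg (haA _ (A.inv_mem hg))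
  -- it is trivial on `M`
  have hcM : ∀ m ∈ M, c m = m := by
    intro m hm
    set cb : Xb := θ.rangeRestrict ⟨c, hAX hcA⟩ with hcb
    have h1 : cb ∈ ⁅Gb, Subgroup.zpowers ab⁆ := by
      have h2 : cb = ⁅θ.rangeRestrict ⟨g, hAX hg⟩, ab⁆ := by
        rw [commutatorElement_def, ← map_inv, ← map_inv, ← map_mul, ← map_mul, ← map_mul]
        exact congrArg θ.rangeRestrict (Subtype.ext hc)
      rw [h2]
      exact Subgroup.commutator_mem_commutator ⟨⟨g, hAX hg⟩, hg, rfl⟩ (Subgroup.mem_zpowers ab)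
    suffices h : cb = 1 by
      exact congrArg (fun e : Xb => (((e : MulAut M) ⟨m, hm⟩ : M) : J)) h
    rcases hshult with hb | ⟨-, -, hsp, -, -⟩
    · rwa [hb, Subgroup.mem_bot] at h1
    · obtain ⟨k, hk⟩ := hsp ⟨cb, h1⟩
      obtain ⟨l, hl⟩ := hAq ⟨c, hcA⟩
      have h3 : cb ^ 2 ^ k = 1 := congrArg Subtype.val hk
      have h4 : cb ^ q ^ l = 1 := by
        rw [hcb, ← map_pow, show (⟨c, hAX hcA⟩ : X) ^ q ^ l = 1 from
          Subtype.ext (by simpa using congrArg Subtype.val hl), map_one]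
      refine orderOf_eq_one_iff.1 (Nat.eq_one_of_dvd_coprimes ?_ (orderOf_dvd_of_pow_eq_one h4)
        (orderOf_dvd_of_pow_eq_one h3))
      exact Nat.Coprime.pow _ _ ((Nat.coprime_primes hq.out Nat.prime_two).2 hq2)
  -- it is trivial on `J ⧸ M`
  have hmapM : ∀ g : X, M.map ((g : MulAut J) : J →* J) = M := fun g => by
    refine le_antisymm (fun _ ⟨m, hm, he⟩ => he ▸ hMX g g.2 m hm) fun m hm => ?_
    exact ⟨(g : MulAut J)⁻¹ m, hMX _ (X.inv_mem g.2) m hm, MulAut.apply_inv_self J _ _⟩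
  let π : X →* MulAut (J ⧸ M) := MonoidHom.mk'
    (fun g => QuotientGroup.congr M M (g : MulAut J) (hmapM g))
    fun g h => MulEquiv.ext fun y => by
      obtain ⟨x, rfl⟩ := QuotientGroup.mk_surjective y
      rfl
  have hlt : Nat.card (J ⧸ M) < n := by
    rw [← hn, Subgroup.card_eq_card_quotient_mul_card_subgroup M]
    exact lt_mul_of_one_lt_right Nat.card_pos Finite.one_lt_card
  have hquot := ih _ hlt (J ⧸ M) (hJ.to_quotient M) rfl ((A.subgroupOf X).map π) (π ⟨a, haX⟩)
    (by rw [← map_pow, show (⟨a, haX⟩ : X) ^ r = 1 from Subtype.ext har, map_one])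
    (fun y hy => by
      obtain ⟨x, rfl⟩ := QuotientGroup.mk_surjective y
      refine (QuotientGroup.eq_one_iff x).2
        (FpfFusion.fixed_coset hJ hr hr2 har hfix (fun m hm => hMX a haX m hm) ?_)
      exact QuotientGroup.eq.1 hy.symm)
    ((hAq.comap_of_injective X.subtype Subtype.val_injective).map π)
    (by
      rintro _ ⟨g, hg, rfl⟩
      exact ⟨⟨a, haX⟩ * g * ⟨a, haX⟩⁻¹, haA _ hg, by rw [map_mul, map_mul, map_inv]⟩)
    (π ⟨g, hAX hg⟩) ⟨_, hg, rfl⟩
  have hcπ : π ⟨c, hAX hcA⟩ = 1 := by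
    rw [show (⟨c, hAX hcA⟩ : X) = ⟨g, hAX hg⟩ * ⟨a, haX⟩ * ⟨g, hAX hg⟩⁻¹ * ⟨a, haX⟩⁻¹ from Subtype.ext hc,
      map_mul, map_mul, map_mul, map_inv, map_inv]
    rw [← hquot.eq, mul_inv_cancel_right, mul_inv_cancel]
  -- so its square is trivial
  have hc2 : c ^ 2 = 1 := MulEquiv.ext fun x => by
    have h2 : x⁻¹ * c x ∈ M := QuotientGroup.eq.1 (DFunLike.congr_fun hcπ (x : J ⧸ M)).symm
    set z := x⁻¹ * c x with hz
    have hcx : c x = x * z := (mul_inv_cancel_left x (c x)).symm
    rw [pow_two, MulAut.mul_apply, hcx, map_mul, hcM z h2, hcx, mul_assoc, ← pow_two, (hMZ h2).2, mul_one]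
    rfl
  have hc1 : c = 1 := by
    obtain ⟨l, hl⟩ := hAq ⟨c, hcA⟩
    refine orderOf_eq_one_iff.1 (Nat.eq_one_of_dvd_coprimes ?_
      (orderOf_dvd_of_pow_eq_one (show c ^ q ^ l = 1 by simpa using congrArg Subtype.val hl))
      (orderOf_dvd_of_pow_eq_one hc2))
    exact Nat.Coprime.pow_left _ ((Nat.coprime_primes hq.out Nat.prime_two).2 hq2)
  exact (commutatorElement_eq_one_iff_mul_comm.1 (show ⁅g, a⁆ = 1 by rw [commutatorElement_def]; exact hc1)).symm

end Cfsg.Agent.SETwoClosed.Tail
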