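import Mathlib
import Cfsg.Agent.S0205
import Cfsg.Agent.Lib.Cores.Fitting
import Cfsg.Agent.Lib.SETwoClosed.Facts
import Cfsg.Agent.Lib.SETwoClosed.Tail.Shult

/-!
# Strongly embedded subgroups with a normal Sylow 2-subgroup: splitting the point stabilizer

Theorem T, section 4: a complement `A` of the 2-part of the point stabilizer is the product of the
centralizer of the 2-part in `A` and the stabilizer of a second point.
-/

set_option autoImplicit false
set_option linter.style.haveILetI false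
set_option linter.unusedSectionVars false

namespace Cfsg.Agent.SETwoClosed

open Subgroup MulAction
open Cfsg.Agent.Involutions

universe u

variable {G : Type u} [Group G] {H : Subgroup G}

/-- A complement of the 2-part of the point stabilizer, split by a second point. -/
structure Compl (H : Subgroup G) (b : G ⧸ H) (A : Subgroup G) : Prop where
  le : A ≤ H
  odd : Odd (Nat.card ↥A)
  mul : ∀ h ∈ H, ∃ s ∈ Sx (base H), ∃ x ∈ A, h = s * x
  dec : ∀ x ∈ A, ∃ k ∈ A, (∀ s ∈ Sx (base H), Commute k s) ∧ ∃ d : G, d • b = b ∧ x = k * d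

variable [Finite G]

/-- A complement of the 2-part containing a given maximal `p`-subgroup of `H`, for an odd prime `p`. -/
theorem Hyp.exists_compl (h : Hyp H) {p : ℕ} [Fact p.Prime] (hp2 : p ≠ 2) {T : Subgroup G}
    (hT : IsSyl p T H) :
    ∃ A : Subgroup G, A ≤ H ∧ Odd (Nat.card ↥A) ∧ T ≤ A ∧
      ∀ g ∈ H, ∃ s ∈ Sx (base H), ∃ x ∈ A, g = s * x := by
  classical
  haveI : Fact (Nat.Prime 2) := ⟨Nat.prime_two⟩
  have hSH : Sx (base H) ≤ H := fun s hs => smul_base_iff.1 (Sx_le _ hs)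
  have hHN : H ≤ normalizer (Sx (base H) : Set G) := fun g hg =>
    stab_le_normalizer_Sx _ (smul_base_iff.2 hg)
  set S₀ := (Sx (base H)).subgroupOf H with hS₀
  haveI hn : S₀.Normal := (normal_subgroupOf_iff_le_normalizer hSH).2 hHN
  have hodd : Odd S₀.index := by
    rw [← Nat.not_even_iff_odd, even_iff_two_dvd]
    intro hd
    rw [index_eq_card] at hd
    obtain ⟨y, hy⟩ := exists_prime_orderOf_dvd_card' 2 hd
    obtain ⟨g, rfl⟩ := QuotientGroup.mk_surjective y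
    have h1 : g ^ 2 ∈ S₀ := by
      rw [← QuotientGroup.eq_one_iff, QuotientGroup.mk_pow, ← hy, pow_orderOf_eq_one]
    obtain ⟨k, hk⟩ := (h.mem_Sx.1 (mem_subgroupOf.1 h1)).2
    have h2 : (g : G) ∈ Sx (base H) := h.mem_Sx.2 ⟨smul_base_iff.2 g.2, k + 1, by
      rw [pow_succ', pow_mul]; simpa using hk⟩
    rw [(QuotientGroup.eq_one_iff g).2 (mem_subgroupOf.2 h2), orderOf_one] at hy
    exact absurd hy (by norm_num)
  obtain ⟨e, he⟩ := IsPGroup.iff_card.1 (h.isPGroup_Sx (base H))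
  have hc0 : Nat.card ↥S₀ = 2 ^ e := by
    rw [hS₀, Nat.card_congr (subgroupOfEquivOfLe hSH).toEquiv, he]
  obtain ⟨C, hC⟩ := exists_right_complement'_of_coprime (N := S₀)
    (by rw [hc0]; exact Nat.Coprime.pow_left _ (Nat.coprime_two_left.2 hodd))
  set A₀ := C.map H.subtype with hA₀
  have hA₀H : A₀ ≤ H := map_subtype_le _
  have hA₀c : Nat.card ↥A₀ = S₀.index := by
    rw [hA₀, card_map_of_injective H.subtype_injective, hC.symm.index_eq_card]
  have hmul : ∀ g ∈ H, ∃ s ∈ Sx (base H), ∃ x ∈ A₀, g = s * x := by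
    intro g hg
    obtain ⟨⟨x, y⟩, hxy⟩ := hC.2 ⟨g, hg⟩
    exact ⟨x.1, x.2, y.1, ⟨y, y.2, rfl⟩, (congrArg Subtype.val hxy).symm⟩
  obtain ⟨R, hR⟩ := exists_isSyl (p := p) A₀
  have hcard : Nat.card ↥T ≤ Nat.card ↥R := by
    rw [hT.card_eq, hR.card_eq]
    refine Nat.pow_le_pow_right (Fact.out : p.Prime).pos (le_of_eq ?_)
    rw [← S₀.card_mul_index, hc0, ← hA₀c, Nat.factorization_mul (by positivity) Nat.card_pos.ne',
      Finsupp.add_apply, Nat.Prime.factorization_pow Nat.prime_two,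
      Finsupp.single_eq_of_ne (Ne.symm hp2).symm, zero_add]
  obtain ⟨d, hd, hdT⟩ := hT.conj (hT.of_card hR.2.1 (hR.1.trans hA₀H) hcard)
  refine ⟨cj d⁻¹ A₀, fun x hx => ?_, ?_, ?_, fun g hg => ?_⟩
  · rw [mem_cj, inv_inv] at hx
    have h1 := H.mul_mem (H.mul_mem (H.inv_mem hd) (hA₀H hx)) hd
    rwa [show d⁻¹ * (d * x * d⁻¹) * d = x by group] at h1
  · rw [card_cj, hA₀c]
    exact hodd
  · intro t ht
    rw [mem_cj, inv_inv]
    exact hR.1 (hdT ▸ conj_mem_cj ht)
  · obtain ⟨s, hs, x, hx, e⟩ := hmul (d * g * d⁻¹) (H.mul_mem (H.mul_mem hd hg) (H.inv_mem hd))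
    refine ⟨d⁻¹ * s * d, ?_, d⁻¹ * x * d, ?_, ?_⟩
    · simpa using Sx_normal (g := d⁻¹) (smul_base_iff.2 (H.inv_mem hd)) hs
    · rw [mem_cj, inv_inv, show d * (d⁻¹ * x * d) * d⁻¹ = x by group]
      exact hx
    · calc g = d⁻¹ * (d * g * d⁻¹) * d := by group
        _ = _ := by rw [e]; group

variable {n p : ℕ}

/-- A maximal `p`-subgroup of `H` with a central element of order `p` fixing just two points and no
nonidentity element of the 2-part. -/
theorem Facts.exists_centre_elt (hF : Facts H n p) {b : G ⧸ H} (hb : b ≠ base H) :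
    ∃ (T : Subgroup G) (y : G), IsSyl p T H ∧ y ∈ T ∧ y ^ p = 1 ∧ (∀ t ∈ T, Commute t y) ∧
      (∀ s ∈ Sx (base H), Commute y s → s = 1) ∧
      (∀ t ∈ T, t • b = b) ∧ ∀ z : G ⧸ H, y • z = z → z = base H ∨ z = b := by
  classical
  haveI := hF.par.fact
  have h := hF.par.hyp
  have hab : base H ≠ b := hb.symm
  obtain ⟨u, hu, hua, -⟩ := h.exists_swap hab
  obtain ⟨c, hc, huc, hco, hcU⟩ := hF.exists_c _ _ u hab hu hua
  obtain ⟨hca, hcb⟩ := mem_inf.1 hc
  have hcp : IsPGroup p ↥(zpowers c) := IsPGroup.of_card (n := (2 ^ n - 1).factorization p) (by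
    rw [Nat.card_zpowers, hco]; rfl)
  obtain ⟨T, hcT, hT⟩ := exists_isSyl_ge hcp (zpowers_le.2 hc)
  have hcT' : c ∈ T := hcT (mem_zpowers c)
  -- `T` is the product of its kernel part and the powers of `c`
  let f : ↥(T ⊓ Ux (base H)) × ↥(zpowers c) → ↥T :=
    fun w => ⟨w.1.1 * w.2.1, T.mul_mem (mem_inf.1 w.1.2).1 (hcT w.2.2)⟩
  have hf : Function.Injective f := by
    rintro ⟨⟨e, he⟩, ⟨x, hx⟩⟩ ⟨⟨e', he'⟩, ⟨x', hx'⟩⟩ heq
    have h1 : e * x = e' * x' := congrArg Subtype.val heq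
    have h2 : x' * x⁻¹ ∈ Ux (base H) := by
      rw [show x' * x⁻¹ = e'⁻¹ * (e * x) * x⁻¹ by rw [h1]; group,
        show e'⁻¹ * (e * x) * x⁻¹ = e'⁻¹ * e by group]
      exact mul_mem (inv_mem (mem_inf.1 he').2) (mem_inf.1 he).2
    obtain ⟨j, hj⟩ := mem_powers_iff_mem_zpowers.2 (mul_mem hx' (inv_mem hx))
    have h3 : x' * x⁻¹ = 1 := by
      rw [← hj]
      show c ^ j = 1
      rw [← orderOf_dvd_iff_pow_eq_one, hco]
      exact (hcU j).1 (by rw [show c ^ j = x' * x⁻¹ from hj]; exact h2)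
    rw [mul_inv_eq_one] at h3
    subst h3
    have h4 : e = e' := mul_right_cancel h1
    subst h4
    rfl
  have hsurj : Function.Surjective f := by
    refine ((Nat.bijective_iff_injective_and_card f).2 ⟨hf, ?_⟩).2
    rw [Nat.card_prod, Nat.card_zpowers, hco, hF.par.card_syl hab hT, mul_comm]
  have hcent : ∀ t ∈ T, Commute t c := by
    intro t ht
    obtain ⟨⟨⟨e, he⟩, ⟨x, hx⟩⟩, he'⟩ := hsurj ⟨t, ht⟩
    have h1 : e * x = t := congrArg Subtype.val he'
    rw [← h1]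
    obtain ⟨j, rfl⟩ := mem_zpowers_iff.1 hx
    have h2 : e • b = b := mem_stabilizer_iff.1 (mem_inf.1 (hT.1 (mem_inf.1 he).1)).2
    exact (hF.commute_inverted hab hu hua (mem_stabilizer_iff.1 hcb) huc (mem_inf.1 he).2 h2).mul_left
      ((Commute.refl c).zpow_left j)
  set m := pPart n p / p with hm
  have hpd : p ∣ pPart n p := dvd_pow_self p hF.par.factorization_pos.ne'
  set y := c ^ m with hy
  have hyp : y ^ p = 1 := by
    rw [hy, ← pow_mul, hm, Nat.div_mul_cancel hpd, ← hco, pow_orderOf_eq_one]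
  have hyU : y ∉ Ux (base H) := fun e => by
    have h1 := (hcU m).1 e
    have h2 : 0 < m := Nat.div_pos (Nat.le_of_dvd (by have := hF.par.one_lt_pPart; omega) hpd) hF.par.prime.pos
    have h3 : m < pPart n p := Nat.div_lt_self (by have := hF.par.one_lt_pPart; omega) hF.par.prime.one_lt
    exact absurd (Nat.le_of_dvd h2 h1) (not_le.2 h3)
  have hya : y • base H = base H := mem_stabilizer_iff.1 (pow_mem hca m)
  have hyb : y • b = b := mem_stabilizer_iff.1 (pow_mem hcb m)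
  have hyW : ∀ w ∈ Wx (base H), Commute y w → w = 1 :=
    hF.par.fpf _ y hya ⟨1, by rw [pow_one, hyp]; exact one_mem _⟩ hyU
  refine ⟨T, y, ⟨fun t ht => smul_base_iff.1 (mem_inf.1 (hT.1 ht)).1, hT.2.1, fun Q hTQ _ hQ =>
    (eq_of_le_of_card_ge hTQ (hF.sylow _ _ T Q hab hT hQ)).symm⟩, T.pow_mem hcT' m, hyp,
    fun t ht => (hcent t ht).pow_right m, h.fpf_Sx hyW,
    fun t ht => mem_stabilizer_iff.1 (mem_inf.1 (hT.1 ht)).2, fun z hz => ?_⟩
  refine hF.fix_two _ _ z (zpowers y) hab (hcp.to_le (zpowers_le.2 (pow_mem (mem_zpowers c) m)))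
    (zpowers_le.2 hya) (zpowers_le.2 hyb) (zpowers_le.2 hz) fun e => hyU (e (mem_zpowers y))

set_option maxHeartbeats 1000000 in
/-- Section 4: a complement of the 2-part split by a second point. -/
theorem Facts.exists_split (hF : Facts H n p) {b : G ⧸ H} (hb : b ≠ base H) :
    ∃ A : Subgroup G, Compl H b A := by
  classical
  haveI := hF.par.fact
  have h := hF.par.hyp
  obtain ⟨T, y, hT, hyT, hyp, hycent, hyfpf, hTb, hyfix⟩ := hF.exists_centre_elt hb
  obtain ⟨A, hAH, hAodd, hTA, hmul⟩ := h.exists_compl hF.par.p_ne_two hT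
  refine ⟨A, hAH, hAodd, hmul, fun x₀ hx₀ => ?_⟩
  set S := Sx (base H)
  have hAN : A ≤ normalizer (S : Set G) := fun a ha => stab_le_normalizer_Sx _ (smul_base_iff.2 (hAH ha))
  let ψ : ↥A →* MulAut ↥S := (normalizerMonoidHom S).comp (inclusion hAN)
  have hψ : ∀ (a : ↥A) (s : ↥S), ((ψ a s : ↥S) : G) = a * s * (a : G)⁻¹ := fun _ _ => rfl
  have hker : ∀ a : ↥A, a ∈ ψ.ker ↔ ∀ s ∈ S, Commute (a : G) s := by
    intro a
    rw [MonoidHom.mem_ker]
    constructor
    · intro e s hs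
      have h1 := congrArg (fun φ : MulAut ↥S => ((φ ⟨s, hs⟩ : ↥S) : G)) e
      rw [hψ, MulAut.one_apply] at h1
      exact mul_inv_eq_iff_eq_mul.1 h1
    · intro e
      refine MulEquiv.ext fun s => Subtype.ext ?_
      rw [hψ, MulAut.one_apply, mul_inv_eq_iff_eq_mul]
      exact e s s.2
  let φ : ↥A →* ↥ψ.range := ψ.rangeRestrict
  have hφ : Function.Surjective φ := ψ.rangeRestrict_surjective
  have hXodd : Odd (Nat.card ↥ψ.range) := hAodd.of_dvd_nat (card_range_dvd ψ)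
  haveI : Group.IsSolvable ↥ψ.range := Cfsg.Agent.S0205.result hXodd
  set yA : ↥A := ⟨y, hTA hyT⟩ with hyA
  have hyAp : yA ^ p = 1 := Subtype.ext hyp
  -- a Sylow subgroup of `A`
  obtain ⟨TA, hTAle⟩ := (hT.2.1.comap_subtype (K := A)).exists_le_sylow
  have hTAeq : (TA : Subgroup ↥A).map A.subtype = T :=
    hT.2.2 _ (fun t ht => ⟨⟨t, hTA ht⟩, hTAle ht, rfl⟩) ((map_subtype_le _).trans hAH) (TA.2.map _)
  have hTAmem : ∀ a : ↥A, a ∈ (TA : Subgroup ↥A) ↔ (a : G) ∈ T := fun a => by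
    refine ⟨fun ha => hTAeq ▸ ⟨a, ha, rfl⟩, fun ha => ?_⟩
    obtain ⟨a', ha', e⟩ := hTAeq.symm ▸ ha
    rwa [← Subtype.ext (e : (a' : G) = a)]
  -- the image of `y` centralizes the Fitting subgroup of the image of `A`
  have hcent : ∀ (q : ℕ), q.Prime → q ∣ Nat.card ↥ψ.range → ∀ g ∈ Cfsg.pCore q ↥ψ.range,
      Commute (φ yA) g := by
    intro q hq hqd g hg
    haveI := Fact.mk hq
    by_cases hqp : q = p
    · subst hqp
      obtain ⟨a, ha, rfl⟩ := Cores.pCore_le_sylow (TA.mapSurjective hφ) hg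
      exact (show Commute a yA from Subtype.ext (hycent _ ((hTAmem a).1 ha))).symm.map φ
    · have hq2 : q ≠ 2 := fun e => Nat.not_even_iff_odd.2 hXodd (even_iff_two_dvd.2 (e ▸ hqd))
      have h1 := Tail.commute_of_fpf hq2 hF.par.prime hF.par.p_ne_two (Ne.symm hqp) _ ↥S
        (h.isPGroup_Sx _) rfl ((Cfsg.pCore q ↥ψ.range).map ψ.range.subtype) (φ yA : MulAut ↥S)
        (by rw [← SubgroupClass.coe_pow, ← map_pow, hyAp, map_one, OneMemClass.coe_one])
        (fun s hs => Subtype.ext (hyfpf s s.2 (mul_inv_eq_iff_eq_mul.1 (congrArg Subtype.val hs))))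
        ((Cores.pCore_isPGroup q).map _)
        (by
          rintro _ ⟨g', hg', rfl⟩
          exact ⟨φ yA * g' * (φ yA)⁻¹, (Cores.pCore_normal q).conj_mem g' hg' _, rfl⟩)
        g ⟨g, hg, rfl⟩
      exact Subtype.ext h1
  have hyF : φ yA ∈ Cfsg.fittingSubgroup ↥ψ.range := by
    refine Cores.centralizer_fittingSubgroup_le (mem_centralizer_iff.2 fun g hg => ?_)
    have hle : Cfsg.fittingSubgroup ↥ψ.range ≤ centralizer ({φ yA} : Set ↥ψ.range) := by
      rw [Cores.fittingSubgroup_eq_iSup]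
      refine iSup_le fun q g hg => mem_centralizer_singleton_iff.2 ?_
      exact (hcent _ (Nat.prime_of_mem_primeFactors q.2) (Nat.dvd_of_mem_primeFactors q.2) g hg).symm.eq
    exact mem_centralizer_singleton_iff.1 (hle hg)
  have hyP : φ yA ∈ Cfsg.pCore p ↥ψ.range := by
    set F := Cfsg.fittingSubgroup ↥ψ.range
    haveI : Group.IsNilpotent ↥F := Cores.fittingSubgroup_isNilpotent
    obtain ⟨P⟩ : Nonempty (Sylow p ↥F) := inferInstance
    haveI : (P : Subgroup ↥F).Normal := Sylow.normal_of_normalizerCondition Group.normalizerCondition_of_isNilpotent P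
    have hzp : IsPGroup p ↥(zpowers (⟨φ yA, hyF⟩ : ↥F)) := by
      rintro ⟨w, hw⟩
      obtain ⟨j, rfl⟩ := mem_zpowers_iff.1 hw
      refine ⟨1, Subtype.ext ?_⟩
      have h1 : (⟨φ yA, hyF⟩ : ↥F) ^ p = 1 := Subtype.ext (by
        show φ yA ^ p = 1
        rw [← map_pow, hyAp, map_one])
      show ((⟨φ yA, hyF⟩ : ↥F) ^ j) ^ p ^ 1 = 1
      rw [pow_one, ← zpow_natCast, ← zpow_mul, mul_comm, zpow_mul, zpow_natCast, h1, one_zpow]
    have h1 : zpowers (⟨φ yA, hyF⟩ : ↥F) ⊔ (P : Subgroup ↥F) = P :=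
      P.3 (hzp.to_sup_of_normal_right P.2) le_sup_right
    rw [← Cores.sylow_fitting_map P]
    exact ⟨⟨φ yA, hyF⟩, h1 ▸ mem_sup_left (mem_zpowers _), rfl⟩
  -- the Frattini argument in `A`
  set O := (Cfsg.pCore p ↥ψ.range).comap φ with hO
  haveI : O.Normal := Subgroup.Normal.comap (Cores.pCore_normal p) φ
  obtain ⟨P, hP⟩ := ((TA.2.to_le (inf_le_left : (TA : Subgroup ↥A) ⊓ O ≤ _)).comap_subtype (K := O)).exists_le_sylow
  have hPTA : (P : Subgroup ↥O).map O.subtype = (TA : Subgroup ↥A) ⊓ O := by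
    obtain ⟨T', hT'⟩ := (P.2.map O.subtype).exists_le_sylow
    obtain ⟨a, rfl⟩ := MulAction.exists_smul_eq ↥A TA T'
    have hle' : (TA : Subgroup ↥A) ⊓ O ≤ (P : Subgroup ↥O).map O.subtype :=
      fun w hw => ⟨⟨w, (mem_inf.1 hw).2⟩, hP hw, rfl⟩
    refine (eq_of_le_of_card_ge hle' ?_).symm
    refine (card_le_of_le (le_inf hT' (map_subtype_le _))).trans (le_of_eq ?_)
    have hconj : ((a • TA : Sylow p ↥A) : Subgroup ↥A) ⊓ O =
        ((TA : Subgroup ↥A) ⊓ O).map (MulAut.conj a).toMonoidHom := by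
      rw [Sylow.coe_subgroup_smul]
      ext w
      constructor
      · intro hw
        obtain ⟨⟨v, hv, rfl⟩, hwO⟩ := mem_inf.1 hw
        refine ⟨v, mem_inf.2 ⟨hv, ?_⟩, rfl⟩
        have h1 := (inferInstance : O.Normal).conj_mem _ hwO a⁻¹
        simpa [MulAut.smul_def, mul_assoc] using h1
      · rintro ⟨v, hv, rfl⟩
        exact mem_inf.2 ⟨⟨v, (mem_inf.1 hv).1, rfl⟩, (inferInstance : O.Normal).conj_mem v (mem_inf.1 hv).2 a⟩
    rw [hconj, card_map_of_injective (MulAut.conj a).injective]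
  -- `O` is the kernel times a Sylow subgroup
  have hKO : ψ.ker ≤ O := fun w hw => by
    rw [hO, mem_comap, show φ w = 1 from Subtype.ext hw]
    exact one_mem _
  have hOtop : (ψ.ker.subgroupOf O) ⊔ (P : Subgroup ↥O) = ⊤ := by
    haveI : (ψ.ker.subgroupOf O).Normal := inferInstance
    rw [← index_eq_one]
    refine Nat.eq_one_of_dvd_coprimes ?_ (index_dvd_of_le le_sup_left) (index_dvd_of_le le_sup_right)
    have hk : ψ.ker.subgroupOf O = (φ.comp O.subtype).ker := by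
      ext w
      simp only [mem_subgroupOf, MonoidHom.mem_ker, MonoidHom.comp_apply]
      exact ⟨fun e => Subtype.ext e, fun e => congrArg Subtype.val e⟩
    rw [hk, index_ker]
    obtain ⟨j, hj⟩ := IsPGroup.iff_card.1 ((Cores.pCore_isPGroup p).to_le
      (show (φ.comp O.subtype).range ≤ Cfsg.pCore p ↥ψ.range by rintro _ ⟨w, rfl⟩; exact w.2))
    rw [hj]
    exact Nat.Coprime.pow_left _ ((hF.par.prime.coprime_iff_not_dvd).2 P.not_dvd_index)
  have hx : (⟨x₀, hx₀⟩ : ↥A) ∈ normalizer (((P : Subgroup ↥O).map O.subtype : Subgroup ↥A) : Set ↥A) ⊔ O := by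
    rw [Sylow.normalizer_sup_eq_top P]; exact mem_top _
  have hle : normalizer (((P : Subgroup ↥O).map O.subtype : Subgroup ↥A) : Set ↥A) ⊔ O ≤
      ψ.ker ⊔ normalizer (((P : Subgroup ↥O).map O.subtype : Subgroup ↥A) : Set ↥A) := by
    refine sup_le le_sup_right fun w hw => ?_
    have h1 : (⟨w, hw⟩ : ↥O) ∈ (ψ.ker.subgroupOf O) ⊔ (P : Subgroup ↥O) := hOtop ▸ mem_top _
    have h2 := mem_map_of_mem O.subtype h1
    rw [Subgroup.map_sup, map_subgroupOf_eq_of_le hKO] at h2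
    exact sup_le_sup_left le_normalizer _ h2
  obtain ⟨k, hk, d, hd, hkd⟩ := mem_sup_of_normal_left.1 (hle hx)
  refine ⟨k, k.2, (hker k).1 hk, d, ?_, (congrArg Subtype.val hkd).symm⟩
  have hyR : yA ∈ (P : Subgroup ↥O).map O.subtype := by
    rw [hPTA]
    exact mem_inf.2 ⟨(hTAmem yA).2 hyT, hyP⟩
  have hyd := (mem_normalizer_iff.1 (inv_mem hd) yA).1 hyR
  rw [inv_inv, hPTA] at hyd
  have h1 : ((d⁻¹ * yA * d : ↥A) : G) • b = b := hTb _ ((hTAmem _).1 (mem_inf.1 hyd).1)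
  exact ((hyfix _ (by
    show y • ((d : G) • b) = (d : G) • b
    rw [smul_fix_iff]
    simpa using h1)).resolve_left fun e => hb (by
      rw [← inv_smul_smul (d : G) b, e]
      exact smul_base_iff.2 (H.inv_mem (hAH d.2))))

end Cfsg.Agent.SETwoClosed
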