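import Mathlib
import Cfsg.Agent.Lib.Characters.Frobenius
import Cfsg.Agent.Lib.Involutions.RankOne.Char.Main
import Cfsg.Agent.Lib.Involutions.RankOne.Char.TwoGroup
import Cfsg.Agent.Lib.SETwoClosed.Tail.Compl

/-!
# Strongly embedded subgroups with a normal Sylow 2-subgroup: the regular normal subgroup

Theorem T, section 6: the point stabilizer has a normal subgroup regular on the other points; it is the
2-part by the rank-one theorem, and the orders follow.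
-/

set_option autoImplicit false
set_option linter.style.haveILetI false
set_option linter.unusedSectionVars false

namespace Cfsg.Agent.SETwoClosed

open Subgroup MulAction
open Cfsg.Agent.Involutions
open scoped Pointwise

universe u

variable {G : Type u} [Group G] {H : Subgroup G} [Finite G] [FaithfulSMul G (G ⧸ H)] {n p : ℕ}

theorem centralizer_ne_top {e : G} (he : e • base H = base H) (he1 : e ≠ 1) :
    centralizer ({e} : Set G) ≠ ⊤ := by
  intro htop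
  refine he1 (FaithfulSMul.eq_of_smul_eq_smul (α := G ⧸ H) fun z => ?_)
  obtain ⟨g, rfl⟩ := exists_smul_base z
  have hg : g ∈ centralizer ({e} : Set G) := htop ▸ mem_top g
  rw [one_smul, ← mul_smul, ← mem_centralizer_singleton_iff.1 hg, mul_smul, he]

/-- The part of `A` centralizing the 2-part. -/
abbrev cA (H A : Subgroup G) : Subgroup G := A ⊓ centralizer (Sx (base H) : Set G)

theorem mem_cA {A : Subgroup G} {k : G} :
    k ∈ cA H A ↔ k ∈ A ∧ ∀ s ∈ Sx (base H), Commute k s := by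
  rw [mem_inf, mem_centralizer_iff]
  exact and_congr_right fun _ => ⟨fun h s hs => (h s hs).symm, fun h s hs => (h s hs).eq.symm⟩

variable {b : G ⧸ H} {A : Subgroup G}

theorem Compl.conj_cA (hC : Compl H b A) {h g k : G} (hh : h ∈ H) (hg : g = h * k * h⁻¹) (hk : k ∈ cA H A) :
    g ∈ cA H A := by
  obtain ⟨hkA, hks⟩ := mem_cA.1 hk
  obtain ⟨s, hs, x, hx, rfl⟩ := hC.mul h hh
  have h1 : x * k * x⁻¹ ∈ cA H A := by
    refine mem_cA.2 ⟨A.mul_mem (A.mul_mem hx hkA) (A.inv_mem hx), fun t ht => ?_⟩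
    have h2 := hks (x⁻¹ * t * x) (by
      simpa using Sx_normal (g := x⁻¹) (smul_base_iff.2 (H.inv_mem (hC.le hx))) ht)
    show x * k * x⁻¹ * t = t * (x * k * x⁻¹)
    calc x * k * x⁻¹ * t = x * (k * (x⁻¹ * t * x)) * x⁻¹ := by group
      _ = x * ((x⁻¹ * t * x) * k) * x⁻¹ := by rw [h2.eq]
      _ = _ := by group
  have h3 : (x * k * x⁻¹) * s = s * (x * k * x⁻¹) := ((mem_cA.1 h1).2 s hs).eq
  have h4 : g = x * k * x⁻¹ := by
    rw [hg]
    calc s * x * k * (s * x)⁻¹ = (s * (x * k * x⁻¹)) * s⁻¹ := by group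
      _ = _ := by rw [← h3, mul_inv_cancel_right]
  exact h4 ▸ h1

/-- Every further point is reached from `b` by the 2-part and its centralizer. -/
theorem Compl.exists_point (hC : Compl H b A) (hF : Facts H n p) (hb : b ≠ base H) {z : G ⧸ H}
    (hz : z ≠ base H) : ∃ s ∈ Sx (base H), ∃ k ∈ cA H A, (s * k) • b = z := by
  obtain ⟨g, hga, hgb⟩ := hF.trans2 (base H) b (base H) z hb.symm hz.symm
  obtain ⟨s, hs, x, hx, rfl⟩ := hC.mul g (smul_base_iff.1 hga)
  obtain ⟨k, hk, hks, d, hd, rfl⟩ := hC.dec x hx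
  exact ⟨s, hs, k, mem_cA.2 ⟨hk, hks⟩, by rw [← hgb, mul_smul, mul_smul, mul_smul, hd]⟩

/-- An element of `cA` fixing `b` centralizes the involutions fixing `b`. -/
theorem Compl.commute_Wx (hC : Compl H b A) (hF : Facts H n p) (hb : b ≠ base H) {e : G}
    (he : e ∈ cA H A) (heb : e • b = b) {w : G} (hw : w ∈ Wx b) : Commute e w := by
  have h := hF.par.hyp
  have hea : e • base H = base H := smul_base_iff.2 (hC.le (mem_cA.1 he).1)
  have h1 : e ∈ Ux (base H) ⊓ stabilizer G b := mem_inf.2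
    ⟨mem_Ux.2 ⟨hea, fun v hv => ((mem_cA.1 he).2 v (Wx_le_Sx _ hv)).eq.symm⟩, mem_stabilizer_iff.2 heb⟩
  rw [hF.U_eq _ _ hb.symm] at h1
  exact ((mem_Ux.1 (mem_inf.1 h1).1).2 w hw).symm

/-- The stabilizer of `b` in `cA` meets its conjugates trivially. -/
theorem Compl.malnormal (hC : Compl H b A) (hF : Facts H n p) (IH : IndHyp G) (hb : b ≠ base H) {g e : G}
    (hg : g ∈ cA H A) (he : e ∈ cA H A) (heb : e • b = b) (he1 : e ≠ 1)
    (hge : (g * e * g⁻¹) • b = b) : g • b = b := by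
  have h := hF.par.hyp
  have hgH : g ∈ H := hC.le (mem_cA.1 hg).1
  have he' : g * e * g⁻¹ ∈ cA H A := mul_mem (mul_mem hg he) (inv_mem hg)
  set e' := g * e * g⁻¹
  have he'1 : e' ≠ 1 := fun h1 => he1 (conj_eq_one_iff.1 h1)
  set X := centralizer ({e'} : Set G)
  have hX : X ≠ ⊤ := centralizer_ne_top (smul_base_iff.2 (hC.le (mem_cA.1 he').1)) he'1
  have hSX : Sx (base H) ≤ X := fun s hs => mem_centralizer_singleton_iff.2 ((mem_cA.1 he').2 s hs).eq.symm
  have hWX : ∀ w ∈ Wx b, w ∈ X := fun w hw =>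
    mem_centralizer_singleton_iff.2 (hC.commute_Wx hF hb he' hge hw).eq.symm
  obtain ⟨w, hw, hw1⟩ := h.exists_ne_one_Wx b
  obtain ⟨a1, ha1, b1, hb1, ha11, hb11, hab1⟩ := h.exists_two_Wx (base H)
  have hmov : w • base H ≠ base H := fun e1 => hb (h.fix_eq hw hw1 e1)
  have hS := h.slice IH hX ⟨w, hWX w hw, hmov⟩ (hSX (Wx_le_Sx _ ha1)) (hSX (Wx_le_Sx _ hb1)) ha1 hb1
    ha11 hb11 hab1
  obtain ⟨y, hy, hwy⟩ := hS.involution w (hWX w hw) (h.orderOf_mem_Wx hw hw1)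
  rw [← h.fix_eq hw hw1 hwy] at hy
  -- the image of `b` lies in the same orbit
  have ht : g * w * g⁻¹ ∈ X := by
    refine mem_centralizer_singleton_iff.2 ?_
    have h1 := hC.commute_Wx hF hb he heb hw
    calc g * w * g⁻¹ * e' = g * (w * e) * g⁻¹ := by simp only [e']; group
      _ = g * (e * w) * g⁻¹ := by rw [h1.eq]
      _ = _ := by simp only [e']; group
  obtain ⟨y', hy', hty'⟩ := hS.involution _ ht (by rw [Basic.orderOf_conj]; exact h.orderOf_mem_Wx hw hw1)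
  rw [← h.fix_eq (Wx_conj hw) (fun e1 => hw1 (conj_eq_one_iff.1 e1)) hty'] at hy'
  have hga : g • base H = base H := smul_base_iff.2 hgH
  have hgb : g • b ≠ base H := fun e1 => hb (MulAction.injective g (e1.trans hga.symm))
  obtain ⟨s, hs, hsb⟩ := hS.trans b hy (g • b) hy' hb hgb
  -- `s` is trivial
  have hcom : Commute g s := (mem_cA.1 hg).2 s (mem_inf.1 hs).1
  have hpow : ∀ j : ℕ, g ^ j • b = s ^ j • b := fun j => by
    induction j with
    | zero => rw [pow_zero, pow_zero]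
    | succ j ih =>
      rw [pow_succ, mul_smul, ← hsb, ← mul_smul, (hcom.pow_left j).eq, mul_smul, ih, ← mul_smul, ← pow_succ']
  have h1 := hpow (orderOf g)
  rw [pow_orderOf_eq_one, one_smul] at h1
  have h2 : s ^ orderOf g = 1 :=
    h.eq_one_of_fix_two hb.symm (pow_mem (mem_inf.1 hs).1 _) h1.symm
  have h3 : s = 1 := (h.mem_Sx.1 (mem_inf.1 hs).1).2.eq_one_of_odd
    ((hC.odd.of_dvd_nat (Subgroup.orderOf_dvd_natCard A (mem_cA.1 hg).1)).of_dvd_nat
      (orderOf_dvd_of_pow_eq_one h2))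
  rw [← hsb, h3, one_smul]

/-- The elements of `cA` without fixed points outside the base point form a complement to the stabilizer
of `b`. -/
theorem Compl.exists_kernel (hC : Compl H b A) (hF : Facts H n p) (IH : IndHyp G) (hb : b ≠ base H) :
    ∃ F : Subgroup G, (∀ x, x ∈ F ↔ x ∈ cA H A ∧ (x = 1 ∨ ∀ z : G ⧸ H, z ≠ base H → x • z ≠ z)) ∧
      ∀ k ∈ cA H A, ∃ f ∈ F, ∃ e ∈ cA H A, e • b = b ∧ k = f * e := by
  classical
  set K := cA H A with hK
  -- fixed points of elements of `cA`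
  have hfix : ∀ x ∈ K, ((x = 1 ∨ ∀ z : G ⧸ H, z ≠ base H → x • z ≠ z) ↔
      (x = 1 ∨ ∀ g ∈ K, (g⁻¹ * x * g) • b ≠ b)) := by
    intro x hx
    refine or_congr_right ⟨fun h1 g hg e => ?_, fun h1 z hz e => ?_⟩
    · refine h1 (g • b) (fun e1 => hb (MulAction.injective g (e1.trans
        (smul_base_iff.2 (hC.le (mem_cA.1 hg).1)).symm))) ?_
      rwa [smul_fix_iff]
    · obtain ⟨s, hs, k, hk, rfl⟩ := hC.exists_point hF hb hz
      refine h1 k hk ?_
      rw [← smul_fix_iff]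
      have hxs := (mem_cA.1 hx).2 s hs
      rw [mul_smul, ← mul_smul x, hxs.eq, mul_smul] at e
      exact MulAction.injective s e
  set E : Subgroup ↥K := (stabilizer G b).subgroupOf K with hE
  have hEmem : ∀ x : ↥K, x ∈ E ↔ (x : G) • b = b := fun x => Iff.rfl
  suffices hN : ∃ N : Subgroup ↥K, (∀ x : ↥K, x ∈ N ↔ (x = 1 ∨ ∀ g : ↥K, g⁻¹ * x * g ∉ E)) ∧
      ∀ k : ↥K, ∃ f ∈ N, ∃ e ∈ E, k = f * e by
    obtain ⟨N, hN1, hN2⟩ := hN
    refine ⟨N.map K.subtype, fun x => ⟨?_, fun ⟨hxK, hx⟩ => ?_⟩, fun k hk => ?_⟩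
    · rintro ⟨x, hx, rfl⟩
      refine ⟨x.2, (hfix _ x.2).2 (((hN1 x).1 hx).imp (fun e => congrArg Subtype.val e) fun h1 g hg => ?_)⟩
      exact fun e => h1 ⟨g, hg⟩ ((hEmem _).2 e)
    · refine ⟨⟨x, hxK⟩, (hN1 _).2 (((hfix x hxK).1 hx).imp (fun e => Subtype.ext e) fun h1 g hg => ?_), rfl⟩
      exact h1 g g.2 ((hEmem _).1 hg)
    · obtain ⟨f, hf, e, he, hk'⟩ := hN2 ⟨k, hk⟩
      exact ⟨f, ⟨f, hf, rfl⟩, e, e.2, (hEmem e).1 he, congrArg Subtype.val hk'⟩
  by_cases hbot : E = ⊥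
  · refine ⟨⊤, fun x => iff_of_true (mem_top x) ?_, fun k => ⟨k, mem_top k, 1, one_mem _, (mul_one k).symm⟩⟩
    refine or_iff_not_imp_left.2 fun hx g hg => hx ?_
    rw [hbot, mem_bot] at hg
    simpa [mul_assoc, inv_mul_eq_one, mul_inv_eq_iff_eq_mul] using hg
  by_cases htop : E = ⊤
  · refine ⟨⊥, fun x => ⟨fun hx => Or.inl (mem_bot.1 hx), fun hx => ?_⟩,
      fun k => ⟨1, one_mem _, k, htop ▸ mem_top k, (one_mul k).symm⟩⟩
    rcases hx with rfl | hx
    · exact one_mem _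
    · exact absurd (htop ▸ mem_top _) (hx 1)
  have hfr : Cfsg.IsFrobeniusComplement E := by
    refine ⟨hbot, htop, fun g hg => (eq_bot_iff.2 fun x hx => mem_bot.2 ?_)⟩
    obtain ⟨hxE, hxg⟩ := mem_inf.1 hx
    rw [Subgroup.mem_pointwise_smul_iff_inv_smul_mem, ← map_inv, MulAut.smul_def, MulAut.conj_apply,
      inv_inv] at hxg
    by_contra hx1
    refine hg ((hEmem g).2 (hC.malnormal hF IH hb g.2 (g⁻¹ * x * g).2 ((hEmem _).1 hxg) (fun e1 => hx1 ?_) ?_))
    · have h1 : g⁻¹ * x * g = 1 := Subtype.ext e1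
      simpa [mul_assoc, inv_mul_eq_one, mul_inv_eq_iff_eq_mul] using h1
    · rw [show (g : G) * ((g⁻¹ * x * g : ↥K) : G) * (g : G)⁻¹ = x by simp [mul_assoc]]
      exact (hEmem x).1 hxE
  obtain ⟨N, hN1, -, hN2⟩ := Characters.frobenius_kernel_theorem hfr
  refine ⟨N, fun x => ?_, fun k => ?_⟩
  · rw [← SetLike.mem_coe, hN1]
    show (x = 1 ∨ ∀ g : ↥K, x ∉ MulAut.conj g • E) ↔ _
    simp only [Subgroup.mem_pointwise_smul_iff_inv_smul_mem, ← map_inv, MulAut.smul_def, MulAut.conj_apply,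
      inv_inv]
  · obtain ⟨⟨f, e⟩, hfe⟩ := hN2.2 k
    exact ⟨f, f.2, e, e.2, hfe.symm⟩

/-- Section 6: the point stabilizer gives a rank-one set-up on its 2-part. -/
theorem Facts.isRankOneSetup (hF : Facts H n p) (IH : IndHyp G) {u : G} (hu : orderOf u = 2) (hua : u • base H ≠ base H) :
    Cfsg.IsRankOneSetup G (G ⧸ H) (base H) u (Sx (base H)) := by
  classical
  have h := hF.par.hyp
  set a := base H
  set b := u • a with hbdef
  obtain ⟨A, hC⟩ := hF.exists_split hua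
  obtain ⟨F, hFmem, hFE⟩ := hC.exists_kernel hF IH hua
  have hFK : ∀ f ∈ F, f ∈ cA H A := fun f hf => ((hFmem f).1 hf).1
  have hFH : ∀ f ∈ F, f ∈ H := fun f hf => hC.le (mem_cA.1 (hFK f hf)).1
  have hFn : ∀ g ∈ H, ∀ f ∈ F, g * f * g⁻¹ ∈ F := by
    intro g hg f hf
    obtain ⟨hfK, hf1⟩ := (hFmem f).1 hf
    refine (hFmem _).2 ⟨hC.conj_cA hg rfl hfK, hf1.imp (fun e => by rw [e, mul_one, mul_inv_cancel])
      fun h1 z hz e => h1 (g⁻¹ • z) (fun e1 => hz ?_) ?_⟩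
    · rw [← smul_inv_smul g z, e1, smul_base_iff.2 hg]
    · rw [smul_fix_iff, inv_inv]
      exact e
  set Q := Sx a ⊔ F with hQ
  have hFN : F ≤ normalizer (Sx a : Set G) := fun f hf =>
    stab_le_normalizer_Sx a (smul_base_iff.2 (hFH f hf))
  have hQmem : ∀ q ∈ Q, ∃ s ∈ Sx a, ∃ f ∈ F, q = s * f := by
    intro q hq
    rw [hQ, ← SetLike.mem_coe, coe_mul_of_right_le_normalizer_left _ _ hFN] at hq
    obtain ⟨s, hs, f, hf, rfl⟩ := hq
    exact ⟨s, hs, f, hf, rfl⟩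
  have hQa : Q ≤ stabilizer G a := sup_le (Sx_le a) fun f hf => smul_base_iff.2 (hFH f hf)
  have hS : Cfsg.IsRankOneSetup G (G ⧸ H) a u Q := by
    refine ⟨is_two_pretransitive_iff.2 fun h1 h2 => hF.trans2 _ _ _ _ h1 h2, Basic.inv_sq_one hu,
      Basic.ne_one hu, fun e => hua (mem_stabilizer_iff.1 e), hQa, fun g hg q hq => ?_, ?_, ?_, ?_,
      h.odd_D hua.symm⟩
    · obtain ⟨s, hs, f, hf, rfl⟩ := hQmem q hq
      rw [show g * (s * f) * g⁻¹ = (g * s * g⁻¹) * (g * f * g⁻¹) by group]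
      exact mul_mem (mem_sup_left (Sx_normal (mem_stabilizer_iff.1 hg) hs))
        (mem_sup_right (hFn g (smul_base_iff.1 (mem_stabilizer_iff.1 hg)) f hf))
    · refine eq_bot_iff.2 fun q hq => mem_bot.2 ?_
      obtain ⟨hqQ, hqb⟩ := mem_inf.1 hq
      obtain ⟨s, hs, f, hf, rfl⟩ := hQmem q hqQ
      obtain ⟨hfK, hf1⟩ := (hFmem f).1 hf
      have hcom : Commute f s := (mem_cA.1 hfK).2 s hs
      have hfodd : Odd (orderOf f) :=
        hC.odd.of_dvd_nat (Subgroup.orderOf_dvd_natCard A (mem_cA.1 hfK).1)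
      have h1 : (s * f) ^ orderOf f = s ^ orderOf f := by
        rw [hcom.symm.mul_pow, pow_orderOf_eq_one, mul_one]
      have h2 : s ^ orderOf f = 1 :=
        h.eq_one_of_fix_two hua.symm (pow_mem hs _) (h1 ▸ mem_stabilizer_iff.1 (pow_mem hqb _))
      have h3 : s = 1 :=
        (h.mem_Sx.1 hs).2.eq_one_of_odd (hfodd.of_dvd_nat (orderOf_dvd_of_pow_eq_one h2))
      rw [h3, one_mul] at hqb ⊢
      exact hf1.resolve_right fun h4 => h4 b hua (mem_stabilizer_iff.1 hqb)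
    · refine le_antisymm (sup_le hQa inf_le_left) fun g hg => ?_
      obtain ⟨s, hs, x, hx, rfl⟩ := hC.mul g (smul_base_iff.1 (mem_stabilizer_iff.1 hg))
      obtain ⟨k, hk, hks, d, hd, rfl⟩ := hC.dec x hx
      obtain ⟨f, hf, e, he, heb, rfl⟩ := hFE k (mem_cA.2 ⟨hk, hks⟩)
      rw [show s * (f * e * d) = s * f * (e * d) by group]
      refine mul_mem (mem_sup_left (mul_mem (mem_sup_left hs) (mem_sup_right hf))) (mem_sup_right ?_)
      have hed : e * d ∈ H := by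
        have h5 := H.mul_mem (H.inv_mem (hFH f hf)) (hC.le hx)
        rwa [show f⁻¹ * (f * e * d) = e * d by group] at h5
      exact mem_inf.2 ⟨smul_base_iff.2 hed, by rw [mem_stabilizer_iff, mul_smul, hd, heb]⟩
    · obtain ⟨w, hw, hw1⟩ := h.exists_ne_one_Wx a
      have h1 := Subgroup.orderOf_dvd_natCard Q (mem_sup_left (Wx_le_Sx a hw) : w ∈ Q)
      rw [h.orderOf_mem_Wx hw hw1] at h1
      exact even_iff_two_dvd.2 h1
  have h2 : ∃ x y : G, x ≠ 1 ∧ y ≠ 1 ∧ x ≠ y ∧ x * x = 1 ∧ y * y = 1 ∧ x * y = y * x := by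
    obtain ⟨x, -, y, -, hx, hy, hxy, hc⟩ := h.four
    exact ⟨x, y, Basic.ne_one hx, Basic.ne_one hy, hxy, Basic.inv_sq_one hx, Basic.inv_sq_one hy, hc⟩
  have hQS : Q = Sx a := le_antisymm (fun q hq => h.mem_Sx.2 ⟨mem_stabilizer_iff.1 (hQa hq), by
    obtain ⟨k, hk⟩ := RankOne.Char.isPGroup_two hS h2 ⟨q, hq⟩
    exact ⟨k, congrArg Subtype.val hk⟩⟩) le_sup_left
  rw [hQS] at hS
  exact hS

/-- The conclusion of theorem T for a faithful action. -/
theorem Facts.concl (hF : Facts H n p) (IH : IndHyp G) : Concl H := by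
  classical
  have h := hF.par.hyp
  obtain ⟨u, huH, hu⟩ := StronglyEmbedded.exists_involution_notMem h.se
  have hua : u • base H ≠ base H := fun e => huH (smul_base_iff.1 e)
  have hS := hF.isRankOneSetup IH hu hua
  refine ⟨fun y z hy hz => ?_, ?_⟩
  · obtain ⟨q, hq, rfl⟩ := RankOne.exists_q hS hy
    obtain ⟨r, hr, rfl⟩ := RankOne.exists_q hS hz
    exact ⟨r * q⁻¹, mul_mem hr (inv_mem hq), by rw [mul_smul, inv_smul_smul]⟩
  haveI : Fact (Nat.Prime 2) := ⟨Nat.prime_two⟩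
  set Q := Sx (base H) with hQdef
  have h2 : ∃ x y : G, x ≠ 1 ∧ y ≠ 1 ∧ x ≠ y ∧ x * x = 1 ∧ y * y = 1 ∧ x * y = y * x := by
    obtain ⟨x, -, y, -, hx, hy, hxy, hc⟩ := h.four
    exact ⟨x, y, Basic.ne_one hx, Basic.ne_one hy, hxy, Basic.inv_sq_one hx, Basic.inv_sq_one hy, hc⟩
  have hQ2 : IsPGroup 2 Q := h.isPGroup_Sx _
  obtain ⟨E, g, m, F⟩ := RankOne.Char.exists_frame hS h2
  obtain ⟨S, O, sp⟩ := RankOne.Char.exists_split hS h2 F
  have hE : E = Wx (base H) := by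
    ext e
    rw [F.mem_E, h.mem_Wx]
    refine ⟨?_, fun ⟨he, he2⟩ => or_iff_not_imp_left.2 fun h1 => ⟨mem_stabilizer_iff.2 he, h1, he2⟩⟩
    rintro (rfl | ⟨he, -, he2⟩)
    · exact ⟨one_smul G _, mul_one 1⟩
    · exact ⟨mem_stabilizer_iff.1 he, he2⟩
  have hO : O = ⊥ := by
    obtain ⟨k, hk⟩ := IsPGroup.iff_card.1 (hQ2.to_le sp.le_O)
    refine Subgroup.card_eq_one.1 ?_
    rcases k with _ | k
    · simpa using hk
    · have := sp.odd_O
      rw [hk, pow_succ] at this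
      exact absurd this (by simp [Nat.not_odd_iff_even])
  have hSQ : S = Q := le_antisymm sp.le_S fun q hq => by
    obtain ⟨x, hx, y, hy, rfl⟩ := sp.exists_mul q hq
    rw [hO, Subgroup.mem_bot] at hy
    rw [hy, mul_one]; exact hx
  subst hSQ
  rcases sp.abelian_or_suzuki hS h2 with hA | hP
  · have hcomm : ∀ x ∈ Q, ∀ y ∈ Q, x * y = y * x := fun x hx y hy =>
      congrArg Subtype.val (hA.is_comm.comm (⟨x, hx⟩ : Q) ⟨y, hy⟩)
    refine ⟨1, le_rfl, by norm_num, ?_⟩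
    rw [pow_one]
    have hQW : Q ≤ Wx (base H) := fun x hx => h.mem_Wx.2
      ⟨(h.mem_Sx.1 hx).1, RankOne.Char.exponent_two hS h2 hQ2 hcomm x hx⟩
    rw [show Q = Wx (base H) from le_antisymm hQW (Wx_le_Sx _)]
  · have hc := sp.card_center hS F hP
    have hcard := (Subgroup.center Q).card_mul_index
    rw [hc] at hcard
    rw [← hE, F.card_E]
    rcases sp.index_center hS F hP with e | e <;> rw [e] at hcard
    · exact ⟨2, by norm_num, by norm_num, by rw [← hcard, sq]⟩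
    · exact ⟨3, by norm_num, le_rfl, by rw [← hcard]; ring⟩

end Cfsg.Agent.SETwoClosed
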