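import Mathlib
import Cfsg.Agent.Lib.SETwoClosed.Kernel
import Cfsg.Agent.Lib.SETwoClosed.Quot
import Cfsg.Agent.Lib.SETwoClosed.Tail.Regular

/-!
# Strongly embedded subgroups with a normal Sylow 2-subgroup: theorem T

If `H` is strongly embedded, its 2-elements form a subgroup `S`, and it contains a four-group, then `S` is
transitive on the cosets of `H` other than `H`; without a normal core this is a rank-one set-up.
-/

set_option autoImplicit false
set_option linter.style.haveILetI false
set_option linter.unusedSectionVars false

namespace Cfsg.Agent.SETwoClosed

open Subgroup MulAction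
open Cfsg.Agent.Involutions

universe u

variable {G : Type u} [Group G] [Finite G] {H : Subgroup G}

/-- Theorem T: the 2-part of the point stabilizer is transitive on the other points, and its order is the
`i`th power of the number of its elements squaring to one, `i ≤ 3`. -/
theorem Hyp.concl (h : Hyp H) : Concl H :=
  concl_of_step (fun H _ h IH => by
    obtain ⟨n, p, hF⟩ := h.exists_facts IH
    exact hF.concl IH) h

/-- Theorem T without a core: the 2-part gives a rank-one set-up. -/
theorem Hyp.isRankOneSetup [FaithfulSMul G (G ⧸ H)] (h : Hyp H) {u : G} (hu : orderOf u = 2) (huH : u ∉ H) :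
    Cfsg.IsRankOneSetup G (G ⧸ H) (base H) u (Sx (base H)) := by
  have IH : IndHyp G := fun X _ K hK => hK.concl
  obtain ⟨n, p, hF⟩ := h.exists_facts IH
  exact hF.isRankOneSetup IH hu fun e => huH (smul_base_iff.1 e)

end Cfsg.Agent.SETwoClosed
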